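/-
Eigenspaces of a Weyl element on the torus parameters modulo a prime power.
-/
import Cfsg.Agent.Lib.Chev.Lang.Cell
import Cfsg.Agent.Lib.Chev.Tori.Main
import Mathlib.RingTheory.LocalRing.Module
import Mathlib.Algebra.Module.Projective

set_option autoImplicit false

namespace CfsgLib.Chev.SylowTori

open Cfsg.Lie CfsgLib.Chev CfsgLib.Chev.Lang

variable {D : ChevalleyDatum} {A : Aux} {R : Type*} [CommRing R]

/-- the value of a root on a vector -/
noncomputable def lin (D : ChevalleyDatum) (A : Aux) (s : ℕ) : (Fin D.rank → R) →ₗ[R] R :=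
  ∑ j : Fin D.rank, (A.a s j : R) • LinearMap.proj j

theorem lin_apply (s : ℕ) (v : Fin D.rank → R) : lin D A s v = ∑ j : Fin D.rank, (A.a s j : R) * v j := by
  simp [lin]

theorem lin_simple (g : Good D A) (i : Fin D.rank) (v : Fin D.rank → R) :
    lin D A (D.simple i) v = v i := by
  rw [lin_apply, Finset.sum_eq_single i]
  · rw [g.a_simple i i.isLt i i.isLt, if_pos rfl]; simp
  · intro j _ hj
    rw [g.a_simple i i.isLt j j.isLt, if_neg fun e => hj (Fin.ext e)]; simp
  · simp

/-- the action of a word -/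
noncomputable def Phi (R : Type*) [CommRing R] (D : ChevalleyDatum) (A : Aux) (w : List ℕ) :
    Module.End R (Fin D.rank → R) :=
  LinearMap.pi fun i => lin D A (wf A w (D.simple i))

theorem wf_rootMap (g : Good D A) : ∀ {w : List ℕ}, Letters D w → RootMap D A (wf A w)
  | [], _ => rootMap_id
  | _ :: _, h => (rootMap_refl g h.head).comp (wf_rootMap g h.tail)

theorem a_wf (g : Good D A) {w : List ℕ} (hw : Letters D w) {s : ℕ} (hs : s < D.nroots)
    {j : ℕ} (hj : j < D.rank) :
    A.a (wf A w s) j = ∑ k : Fin D.rank, A.a s k * A.a (wf A w (D.simple k)) j := by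
  obtain ⟨-, M, hM⟩ := wf_rootMap g hw
  rw [hM s hs j hj, Finset.sum_range]
  refine Finset.sum_congr rfl fun k _ => ?_
  rw [hM _ (g.simple_lt k k.isLt) j hj, Finset.sum_eq_single (k : ℕ)]
  · rw [g.a_simple k k.isLt k k.isLt, if_pos rfl, one_mul]
  · intro i hi hik
    rw [g.a_simple k k.isLt i (Finset.mem_range.1 hi), if_neg hik, zero_mul]
  · intro h; exact absurd (Finset.mem_range.2 k.isLt) h

theorem lin_wf (g : Good D A) {w : List ℕ} (hw : Letters D w) {s : ℕ} (hs : s < D.nroots)
    (v : Fin D.rank → R) : lin D A (wf A w s) v = lin D A s (Phi R D A w v) := by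
  simp only [lin_apply, Phi, LinearMap.pi_apply]
  simp only [a_wf g hw hs (Fin.isLt _), Int.cast_sum, Int.cast_mul, Finset.sum_mul, Finset.mul_sum]
  rw [Finset.sum_comm]
  exact Finset.sum_congr rfl fun k _ => Finset.sum_congr rfl fun j _ => by ring

theorem iterate_lt (g : Good D A) {w : List ℕ} (hw : Letters D w) {s : ℕ} (hs : s < D.nroots) :
    ∀ k, (wf A w)^[k] s < D.nroots
  | 0 => hs
  | k + 1 => by rw [Function.iterate_succ_apply']; exact wf_lt g hw (iterate_lt g hw hs k)

theorem Phi_pow (g : Good D A) {w : List ℕ} (hw : Letters D w) :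
    ∀ (k : ℕ) (v : Fin D.rank → R) (i : Fin D.rank),
      (Phi R D A w ^ k) v i = lin D A ((wf A w)^[k] (D.simple i)) v
  | 0, v, i => by simp [lin_simple g]
  | k + 1, v, i => by
    rw [pow_succ, Module.End.mul_apply, Phi_pow g hw k, Function.iterate_succ_apply',
      lin_wf g hw (iterate_lt g hw (g.simple_lt i i.isLt) k)]

theorem iterate_card (g : Good D A) {w : List ℕ} (hw : Letters D w) {s : ℕ} (hs : s < D.nroots) :
    (wf A w)^[Nat.card (Weyl g)] s = s := by
  obtain ⟨l, rfl⟩ := exists_fin_word hw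
  set u : Weyl g := (l.map (wS g)).prod
  have key : ∀ k, (((u ^ k : Weyl g) : Equiv.Perm (Fin D.nroots)) ⟨s, hs⟩ : ℕ) =
      (wf A (l.map Fin.val))^[k] s := by
    intro k
    induction k with
    | zero => simp
    | succ k ih =>
      rw [pow_succ', Subgroup.coe_mul, Equiv.Perm.mul_apply, Function.iterate_succ_apply', ← ih]
      exact congrArg Fin.val (wS_prod_apply g l _)
  rw [← key, pow_card_eq_one']
  rfl

/-- the eigenspace -/
noncomputable def eigen (R : Type*) [CommRing R] (D : ChevalleyDatum) (A : Aux) (w : List ℕ) (c : R) :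
    Submodule R (Fin D.rank → R) :=
  LinearMap.ker (Phi R D A w - c • 1)

theorem mem_eigen {w : List ℕ} {c : R} {v : Fin D.rank → R} :
    v ∈ eigen R D A w c ↔ Phi R D A w v = c • v := by
  simp [eigen, sub_eq_zero]

theorem eigen_pow {w : List ℕ} {c : R} {v : Fin D.rank → R} (hv : v ∈ eigen R D A w c) :
    ∀ k : ℕ, (Phi R D A w ^ k) v = c ^ k • v
  | 0 => by simp
  | k + 1 => by
    rw [pow_succ, Module.End.mul_apply, mem_eigen.1 hv, map_smul, eigen_pow hv k, smul_smul, pow_succ']

theorem Phi_pow_card (g : Good D A) {w : List ℕ} (hw : Letters D w) :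
    Phi R D A w ^ Nat.card (Weyl g) = 1 := by
  refine LinearMap.ext fun v => funext fun i => ?_
  rw [Phi_pow g hw, iterate_card g hw (g.simple_lt i i.isLt), lin_simple g]
  rfl

/-- the eigenspace for a root of unity of order prime to the residue characteristic is free -/
theorem eigen_free [IsLocalRing R] (g : Good D A) {w : List ℕ} (hw : Letters D w) {c : R}
    (hc : c ^ Nat.card (Weyl g) = 1) (ho : IsUnit (Nat.card (Weyl g) : R)) :
    Module.Free R (eigen R D A w c) ∧ Module.Finite R (eigen R D A w c) := by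
  set o := Nat.card (Weyl g)
  have ho1 : 0 < o := Nat.card_pos
  have hcu : IsUnit c := IsUnit.of_pow_eq_one hc ho1.ne'
  obtain ⟨cu, rfl⟩ := hcu
  obtain ⟨ou, hou⟩ := ho
  set T : Module.End R (Fin D.rank → R) := ((cu⁻¹ : Rˣ) : R) • Phi R D A w with hT
  have hTo : T ^ o = 1 := by
    rw [hT, smul_pow, Phi_pow_card g hw]
    have : ((cu⁻¹ : Rˣ) : R) ^ o = 1 := by
      rw [← Units.val_pow_eq_pow_val, inv_pow, show cu ^ o = 1 from Units.ext (by simpa using hc),
        inv_one, Units.val_one]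
    rw [this, one_smul]
  set S := ∑ i ∈ Finset.range o, T ^ i with hS
  have hTS : T * S = S := by
    have h := mul_geom_sum T o
    rw [hTo, sub_self, sub_mul, one_mul, sub_eq_zero] at h
    exact h
  have hmem : ∀ x, ((ou⁻¹ : Rˣ) : R) • S x ∈ eigen R D A w (cu : R) := by
    intro x
    refine Submodule.smul_mem _ _ (mem_eigen.2 ?_)
    conv_rhs => rw [← hTS]
    simp [hT, Module.End.mul_apply, smul_smul]
  let π : (Fin D.rank → R) →ₗ[R] eigen R D A w (cu : R) :=
    (((ou⁻¹ : Rˣ) : R) • S).codRestrict _ hmem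
  have hπ : π.comp (eigen R D A w (cu : R)).subtype = LinearMap.id := by
    refine LinearMap.ext fun v => Subtype.ext ?_
    show ((ou⁻¹ : Rˣ) : R) • S v.1 = v.1
    have hfix : ∀ i : ℕ, (T ^ i) v.1 = v.1 := by
      intro i
      rw [hT, smul_pow, LinearMap.smul_apply, eigen_pow v.2, smul_smul, ← mul_pow, Units.inv_mul,
        one_pow, one_smul]
    rw [hS, LinearMap.sum_apply, Finset.sum_congr rfl fun i _ => hfix i, Finset.sum_const,
      Finset.card_range, ← Nat.cast_smul_eq_nsmul R, ← hou, smul_smul, Units.inv_mul, one_smul]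
  have : Module.Projective R (eigen R D A w (cu : R)) := Module.Projective.of_split _ π hπ
  have hfin : Module.Finite R (eigen R D A w (cu : R)) :=
    Module.Finite.of_surjective π fun v => ⟨v.1, LinearMap.congr_fun hπ v⟩
  exact ⟨Module.free_of_flat_of_isLocalRing, hfin⟩

/-! ### roots of unity -/

section

variable {L : Type*} [Field L] {m : ℕ} [NeZero m] (ζ : Lˣ)

/-- the power of `ζ` -/
def zp (x : ZMod m) : Lˣ := ζ ^ (x.val : ℤ)

variable {ζ} (hζ : IsPrimitiveRoot ζ m)
include hζ

theorem zp_cast (z : ℤ) : zp ζ (z : ZMod m) = ζ ^ z := by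
  have hd : (m : ℤ) ∣ ((z : ZMod m).val : ℤ) - z := by
    rw [← ZMod.intCast_zmod_eq_zero_iff_dvd]
    simp
  rw [← (hζ.zpow_eq_one_iff_dvd _), _root_.zpow_sub, mul_inv_eq_one] at hd
  exact hd

theorem zp_inj {x y : ZMod m} (e : zp ζ x = zp ζ y) : x = y := by
  obtain ⟨i, rfl⟩ := ZMod.intCast_surjective x
  obtain ⟨j, rfl⟩ := ZMod.intCast_surjective y
  rw [zp_cast hζ, zp_cast hζ, ← mul_inv_eq_one, ← _root_.zpow_sub, hζ.zpow_eq_one_iff_dvd] at e
  rwa [eq_comm, ZMod.intCast_eq_intCast_iff_dvd_sub]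

theorem zp_lin {ι : Type*} (s : Finset ι) (e : ι → ℤ) (v : ι → ZMod m) :
    zp ζ (∑ j ∈ s, (e j : ZMod m) * v j) = ∏ j ∈ s, zp ζ (v j) ^ e j := by
  choose x hx using fun j => ZMod.intCast_surjective (v j)
  simp only [← hx, ← Int.cast_mul, ← Int.cast_sum, zp_cast hζ, ← _root_.zpow_mul]
  rw [Tori.prod_zpow_sum]
  exact congrArg _ (Finset.sum_congr rfl fun j _ => mul_comm _ _)

theorem zp_nat (n : ℕ) (x : ZMod m) : zp ζ ((n : ZMod m) * x) = zp ζ x ^ n := by
  simpa using zp_lin hζ (Finset.univ : Finset (Fin 1)) (fun _ => (n : ℤ)) (fun _ => x)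

theorem zp_add (x y : ZMod m) : zp ζ (x + y) = zp ζ x * zp ζ y := by
  simpa using zp_lin hζ (Finset.univ : Finset (Fin 2)) (fun _ => 1) ![x, y]

theorem wt_zp (v : Fin D.rank → ZMod m) (s : ℕ) :
    wt D A (Lang.ext fun i => zp ζ (v i)) s = zp ζ (lin D A s v) := by
  rw [lin_apply, zp_lin hζ, wt, Finset.prod_range]
  refine Finset.prod_congr rfl fun i _ => ?_
  rw [Lang.ext, dif_pos i.isLt]

end

end CfsgLib.Chev.SylowTori
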