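/-
The `r`-part of the order of a Chevalley group for a prime `r` not dividing the degrees.
-/
import Cfsg.Agent.Lib.Chev.OrderTypes
import Mathlib.RingTheory.Polynomial.Cyclotomic.Basic
import Mathlib.NumberTheory.Padics.PadicVal.Basic

set_option autoImplicit false

namespace CfsgLib.Chev.SylowTori

open Cfsg.Lie CfsgLib.Chev

/-- the exponent of the `r`-part of `Φ_d(q)`, `d` the order of `q` modulo `r` -/
noncomputable def cval (r q : ℕ) : ℕ :=
  padicValNat r ((Polynomial.cyclotomic (orderOf (q : ZMod r)) ℤ).eval (q : ℤ)).natAbs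

variable {r q : ℕ} [hr : Fact r.Prime]

theorem dvd_pow_sub_one_iff (hq : 0 < q) (n : ℕ) :
    r ∣ q ^ n - 1 ↔ orderOf (q : ZMod r) ∣ n := by
  rw [orderOf_dvd_iff_pow_eq_one, ← ZMod.natCast_eq_zero_iff (q ^ n - 1) r,
    Nat.cast_sub (Nat.one_le_pow _ _ hq), Nat.cast_one, sub_eq_zero, Nat.cast_pow]

theorem order_pos (hq : ¬ r ∣ q) : 0 < orderOf (q : ZMod r) := by
  have h0 : (q : ZMod r) ≠ 0 := fun e => hq ((ZMod.natCast_eq_zero_iff q r).1 e)
  refine orderOf_pos_iff.2 ?_
  exact isOfFinOrder_iff_pow_eq_one.2 ⟨r - 1, by have := hr.out.two_le; omega, ZMod.pow_card_sub_one_eq_one h0⟩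

theorem val_mul (hq : 2 ≤ q) {k : ℕ} (hk : ¬ r ∣ k) {n : ℕ} (hn : 0 < n)
    (hd : r ∣ q ^ n - 1) : padicValNat r (q ^ (n * k) - 1) = padicValNat r (q ^ n - 1) := by
  have hk0 : k ≠ 0 := fun e => hk (e ▸ dvd_zero r)
  have h1 : 1 ≤ q ^ n := Nat.one_le_pow _ _ (by omega)
  have h2 : 1 < q ^ n := Nat.one_lt_pow hn.ne' (by omega)
  have hs : ¬ r ∣ ∑ i ∈ Finset.range k, (q ^ n) ^ i := by
    intro h
    apply hk
    have hx : ((q ^ n : ℕ) : ZMod r) = 1 := by
      have := (ZMod.natCast_eq_zero_iff (q ^ n - 1) r).2 hd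
      rw [Nat.cast_sub h1, Nat.cast_one, sub_eq_zero] at this
      exact this
    have := (ZMod.natCast_eq_zero_iff _ r).2 h
    rw [Nat.cast_sum] at this
    simp only [Nat.cast_pow, hx, one_pow] at this
    push_cast at hx
    simp [hx] at this
    exact (ZMod.natCast_eq_zero_iff k r).1 this
  rw [pow_mul, ← geom_nat h1 k, padicValNat.mul (fun e => hs (by rw [e]; exact dvd_zero r)) (by omega),
    padicValNat.eq_zero_of_not_dvd hs, zero_add]

theorem val_cyclotomic (hq : 2 ≤ q) (hrq : ¬ r ∣ q) :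
    padicValNat r (q ^ orderOf (q : ZMod r) - 1) = cval r q := by
  classical
  set d := orderOf (q : ZMod r)
  have hd : 0 < d := order_pos hrq
  have h := congrArg (fun p : Polynomial ℤ => (p.eval (q : ℤ)).natAbs)
    (Polynomial.prod_cyclotomic_eq_X_pow_sub_one hd ℤ)
  simp only [Polynomial.eval_prod, Polynomial.eval_sub, Polynomial.eval_pow, Polynomial.eval_X,
    Polynomial.eval_one] at h
  have hpd : 1 ≤ q ^ d := Nat.one_le_pow _ _ (by omega)
  rw [show ((q : ℤ) ^ d - 1).natAbs = q ^ d - 1 by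
    rw [← Int.natAbs_natCast (q ^ d - 1), Nat.cast_sub hpd]; push_cast; rfl,
    ← Finset.mul_prod_erase _ _ (Nat.mem_divisors_self d hd.ne'), Int.natAbs_mul] at h
  set rest := (∏ e ∈ d.divisors.erase d, (Polynomial.cyclotomic e ℤ).eval (q : ℤ)).natAbs
  have hne : ((Polynomial.cyclotomic d ℤ).eval (q : ℤ)).natAbs * rest ≠ 0 := by
    rw [h]
    have : 1 < q ^ d := Nat.one_lt_pow hd.ne' (by omega)
    omega
  have hrest : ¬ r ∣ rest := by
    intro hdvd
    have hdvd' := Int.natCast_dvd.2 hdvd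
    obtain ⟨e, he, hre⟩ := (Nat.prime_iff_prime_int.1 hr.out).exists_mem_finset_dvd hdvd'
    obtain ⟨hed, he⟩ := Finset.mem_erase.1 he
    have he0 := Nat.pos_of_mem_divisors he
    have h1 : (Polynomial.cyclotomic e ℤ).eval (q : ℤ) ∣ (q : ℤ) ^ e - 1 := by
      have := Polynomial.eval_dvd (x := (q : ℤ)) (Polynomial.cyclotomic.dvd_X_pow_sub_one e ℤ)
      simpa using this
    have h2 : r ∣ q ^ e - 1 := by
      have := hre.trans h1
      rw [← Int.natCast_dvd_natCast, Nat.cast_sub (Nat.one_le_pow _ _ (by omega))]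
      push_cast
      exact this
    exact hed (Nat.dvd_antisymm (Nat.dvd_of_mem_divisors he)
      ((dvd_pow_sub_one_iff (by omega) e).1 h2))
  rw [← h, padicValNat.mul (left_ne_zero_of_mul hne) (right_ne_zero_of_mul hne),
    padicValNat.eq_zero_of_not_dvd hrest, add_zero]
  rfl

/-- one factor -/
theorem val_degree (hq : 2 ≤ q) (hrq : ¬ r ∣ q) {e : ℕ} (he : ¬ r ∣ e) :
    padicValNat r (q ^ e - 1) = if orderOf (q : ZMod r) ∣ e then cval r q else 0 := by
  split_ifs with h
  · obtain ⟨k, rfl⟩ := h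
    rw [val_mul hq (fun hh => he (dvd_mul_of_dvd_right hh _)) (order_pos hrq)
      ((dvd_pow_sub_one_iff (by omega) _).2 dvd_rfl), val_cyclotomic hq hrq]
  · exact padicValNat.eq_zero_of_not_dvd fun hh => h ((dvd_pow_sub_one_iff (by omega) e).1 hh)

theorem val_prod (hq : 2 ≤ q) (hrq : ¬ r ∣ q) : ∀ deg : List ℕ, ¬ r ∣ deg.prod →
    padicValNat r (deg.map fun d => q ^ d - 1).prod =
        (deg.filter fun e => orderOf (q : ZMod r) ∣ e).length * cval r q ∧
      (deg.map fun d => q ^ d - 1).prod ≠ 0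
  | [], _ => by simp
  | e :: deg, h => by
    rw [List.prod_cons] at h
    obtain ⟨ih, ih0⟩ := val_prod hq hrq deg fun hh => h (dvd_mul_of_dvd_right hh _)
    have he : ¬ r ∣ e := fun hh => h (dvd_mul_of_dvd_left hh _)
    have he0 : q ^ e - 1 ≠ 0 := by
      have : 1 < q ^ e := Nat.one_lt_pow (fun e0 => he (e0 ▸ dvd_zero r)) (by omega)
      omega
    rw [List.map_cons, List.prod_cons, padicValNat.mul he0 ih0, ih, val_degree hq hrq he,
      List.filter_cons]
    refine ⟨?_, mul_ne_zero he0 ih0⟩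
    split_ifs <;> simp_all [add_mul, add_comm]

theorem val_gcds {l : ℕ} (d : Fin l → ℕ) (n : ℕ) (hd : ∀ i, ¬ r ∣ d i) :
    ¬ r ∣ ∏ i, Nat.gcd (d i) n := by
  intro h
  obtain ⟨i, -, hi⟩ := (Nat.prime_iff.1 hr.out).exists_mem_finset_dvd h
  exact hd i (hi.trans (Nat.gcd_dvd_left _ _))

/-- the `r`-part of the group and of the split torus -/
theorem val_group {D : ChevalleyDatum} {A : Aux} {F : Type*} [Field F] [Fintype F] (h : Std D A)
    {lv : List (List Rep)} (hw : checkWeyl D A lv = true)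
    {U Ui V Vi : Matrix (Fin D.rank) (Fin D.rank) ℤ} {d : Fin D.rank → ℕ}
    (hs : smithCheck D A U Ui V Vi d = true) {deg : List ℕ} (hp : poinCheck D.rank lv deg = true)
    (hd : ∀ i, d i ∣ deg.prod) (hrW : ¬ r ∣ deg.prod) (hq : Fintype.card F = q) (hrq : ¬ r ∣ q) :
    padicValNat r (Nat.card (D.group F)) =
        (deg.filter fun e => orderOf (q : ZMod r) ∣ e).length * cval r q ∧
      padicValNat r (Nat.card (D.diagonalSubgroup F)) = D.rank * padicValNat r (q - 1) := by
  have hq2 : 2 ≤ q := hq ▸ Fintype.one_lt_card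
  have : Finite (GL D.Idx F) := finite_GL
  have hg := val_gcds (r := r) d (q - 1) fun i hh => hrW (hh.trans (hd i))
  have hg0 : ∏ i, Nat.gcd (d i) (q - 1) ≠ 0 := fun e => hg (e ▸ dvd_zero r)
  constructor
  · have e := congrArg (padicValNat r) (order_formula h hw hs hp hq)
    obtain ⟨e1, e0⟩ := val_prod hq2 hrq deg hrW
    rwa [padicValNat.mul hg0 Nat.card_pos.ne', padicValNat.eq_zero_of_not_dvd hg, zero_add,
      padicValNat.mul (pow_ne_zero _ (by omega)) e0, e1,
      padicValNat.eq_zero_of_not_dvd fun hh => hrq (hr.out.dvd_of_dvd_pow hh), zero_add] at e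
  · have e := congrArg (padicValNat r) (card_diagonal (F := F) h.good hs)
    rw [hq] at e
    rwa [padicValNat.mul hg0 Nat.card_pos.ne', padicValNat.eq_zero_of_not_dvd hg, zero_add,
      padicValNat.pow] at e

/-- the order of the Weyl group -/
theorem weyl_card_deg {D : ChevalleyDatum} {A : Aux} (g : Good D A) {lv : List (List Rep)}
    (hw : checkWeyl D A lv = true) {deg : List ℕ} (hp : poinCheck D.rank lv deg = true) :
    Nat.card (Weyl g) = deg.prod := by
  simp only [poinCheck, Bool.and_eq_true, decide_eq_true_eq] at hp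
  have h2 := congrArg (pEval 1) hp.2
  rw [pEval_prod, pEval_prod, List.map_map, List.map_map] at h2
  rw [weyl_card g hw]
  refine Eq.trans (congrArg List.prod (List.map_congr_left fun i _ => ?_)) (h2.trans ?_)
  · simp only [Function.comp_apply]
    rw [pEval_counts]
    simp [Function.comp_def]
  · congr 1
    refine (List.map_congr_left (g := id) fun d _ => ?_).trans (List.map_id deg)
    simp [pEval_ones]

end CfsgLib.Chev.SylowTori
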