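/-
Sylow subgroups for a prime not dividing the order of the Weyl group sit in twisted tori.
-/
import Cfsg.Agent.Lib.Chev.SylowTori.Num
import Cfsg.Agent.Lib.Chev.SylowTori.Lin
import Cfsg.Agent.Lib.Chev.Tori.Quot
import Mathlib.FieldTheory.Finite.Extension
import Mathlib.GroupTheory.Sylow

set_option autoImplicit false

namespace CfsgLib.Chev.SylowTori

open Cfsg.Lie Matrix CfsgLib.Chev CfsgLib.Chev.Lang CfsgLib.KnownB.ChevField

universe u

variable {D : ChevalleyDatum} {A : Aux} {F : Type u} [Field F]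

theorem dgn_inj (g : Good D A) : Function.Injective (dgn D A : (Fin D.rank → Fˣ) → GL D.Idx F) := by
  intro a b e
  funext i
  have h1 := congrArg (fun y : GL D.Idx F => (y : Matrix D.Idx D.Idx F)
    (Sum.inr ⟨D.simple i, g.simple_lt i i.isLt⟩) (Sum.inr ⟨D.simple i, g.simple_lt i i.isLt⟩)) e
  simp only [dgn_simple g] at h1
  exact Units.ext h1

/-- the parameters of a torus subgroup conjugated to its power image satisfy a Weyl relation -/
theorem fusion (h : Std D A) {hh : GL D.Idx F} (hG : hh ∈ D.group F) :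
    ∃ w, Letters D w ∧ ∀ a b : Fin D.rank → Fˣ, dgn D A a ∈ D.diagonalSubgroup F →
      dgn D A b ∈ D.diagonalSubgroup F → hh * dgn D A a = dgn D A b * hh →
        nW F h.good w * dgn D A a * (nW F h.good w)⁻¹ = dgn D A b := by
  have g := h.good
  obtain ⟨β, hβ, n, hn, σ, hσ, u, hu, rfl⟩ := normal_form_exists h hG
  obtain ⟨w, hw, cc, hnw⟩ := monomial_exists_word g hn
  refine ⟨w, hw, fun a b ha hb he => ?_⟩
  rw [diagonalSubgroup_eq g] at ha hb
  obtain ⟨c, hc⟩ := ha
  obtain ⟨c', hc'⟩ := hb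
  rw [← hc, ← hc'] at he ⊢
  obtain ⟨d1, hd1⟩ := monomial_conj_tor g hn c
  have hu' : tor D A c⁻¹ * u * (tor D A c⁻¹)⁻¹ ∈ UP F g (toNeg D σ) :=
    conj_UP_le (σ := id) (acts_tor g c⁻¹) (fun r hr => hr.1.1)
      (fun r s hr => xG_mem_UP g hr s) hu
  have e2 : (β * tor D A d1) * n * (tor D A c⁻¹ * u * (tor D A c⁻¹)⁻¹) =
      (tor D A c' * β) * n * u := by
    rw [← hd1, map_inv]
    calc _ = β * n * u * tor D A c := by group
      _ = _ := by rw [he]; group
  obtain ⟨hbb, -⟩ := normal_form_unique h hσ (mul_mem hβ (tor_mem_borel g d1))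
    (mul_mem (tor_mem_borel g c') hβ) hu' hu e2
  obtain ⟨v, hv, e0, rfl⟩ := (mem_borel_iff g).1 hβ
  have hv' := tor_conj_posUnipotent g c' hv
  have e3 : tor D A (e0 * d1) * (tor D A (c' * e0))⁻¹ =
      v⁻¹ * (tor D A c' * v * (tor D A c')⁻¹) := by
    rw [map_mul, map_mul, eq_inv_mul_iff_mul_eq]
    calc v * (tor D A e0 * tor D A d1 * (tor D A c' * tor D A e0)⁻¹)
        = (v * tor D A e0 * tor D A d1) * (tor D A c' * tor D A e0)⁻¹ := by group
      _ = _ := by rw [hbb]; group
  have h1 : tor D A (e0 * d1) * (tor D A (c' * e0))⁻¹ = 1 :=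
    Subgroup.mem_bot.1 ((posUnipotent_inf_diagonal (F := F) h).le (Subgroup.mem_inf.2
      ⟨by rw [e3]; exact mul_mem (inv_mem hv) hv',
        by rw [diagonalSubgroup_eq g]; exact mul_mem ⟨_, rfl⟩ (inv_mem ⟨_, rfl⟩)⟩))
  rw [mul_inv_eq_one, map_mul, map_mul, tor_mul_comm c' e0] at h1
  have h2 : tor D A d1 = tor D A c' := mul_left_cancel h1
  rw [← h2, ← hd1] at *
  rw [hnw]
  obtain ⟨d2, hd2⟩ := monomial_conj_tor g (nW_mem (F := F) g hw) c
  rw [show tor D A cc * nW F g w * tor D A c * (tor D A cc * nW F g w)⁻¹ =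
    tor D A cc * (nW F g w * tor D A c * (nW F g w)⁻¹) * (tor D A cc)⁻¹ by group, hd2,
    tor_mul_comm, mul_inv_cancel_right]

variable {r : ℕ} [hr : Fact r.Prime]

/-- a Sylow subgroup injects into an eigenspace -/
theorem sylow_into_eigen [Fintype F] (h : Std D A)
    {lv : List (List Rep)} (hw : checkWeyl D A lv = true)
    {U Ui V Vi : Matrix (Fin D.rank) (Fin D.rank) ℤ} {dd : Fin D.rank → ℕ}
    (hs : smithCheck D A U Ui V Vi dd = true) {deg : List ℕ} (hp : poinCheck D.rank lv deg = true)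
    (hd : ∀ i, dd i ∣ deg.prod) (hlen : deg.length = D.rank) (hrW : ¬ r ∣ deg.prod) {q : ℕ}
    (hq : Fintype.card F = q) (hrq : ¬ r ∣ q) (P : Sylow r ↥(D.group F)) :
    ∃ w, Letters D w ∧ Nat.card P ≤
      Nat.card ↥(eigen (ZMod (r ^ cval r q)) D A w (q : ZMod (r ^ cval r q))) := by
  classical
  have g := h.good
  subst hq
  set q := Fintype.card F with hqdef
  have hq2 : 2 ≤ q := Fintype.one_lt_card
  set d := orderOf (q : ZMod r)
  have : NeZero d := ⟨(order_pos hrq).ne'⟩
  obtain ⟨p, _⟩ := CharP.exists F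
  have : Fact p.Prime := ⟨CharP.char_is_prime F p⟩
  let L := FiniteField.Extension F p d
  have hL : Nat.card L = q ^ d := by
    rw [FiniteField.natCard_extension, Nat.card_eq_fintype_card]
  have : Finite L := Nat.finite_of_card_ne_zero (by rw [hL]; exact pow_ne_zero _ (by omega))
  have := Fintype.ofFinite L
  have hLc : Fintype.card L = q ^ d := by rw [← Nat.card_eq_fintype_card, hL]
  let σ : L →+* L := (FiniteField.frobeniusAlgHom F L).toRingHom
  have hσ : ∀ x, σ x = x ^ q := fun _ => rfl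
  let ι : F →+* L := algebraMap F L
  have hσι : ∀ x, σ (ι x) = ι x := fun x => by rw [hσ, ← map_pow, FiniteField.pow_card]
  have : Finite (GL D.Idx L) := finite_GL
  have : Finite (GL D.Idx F) := finite_GL
  -- a Sylow subgroup of the big group inside the split torus
  have hrL : ¬ r ∣ q ^ d := fun e => hrq (hr.out.dvd_of_dvd_pow e)
  obtain ⟨hvG, hvT⟩ := val_group (r := r) h hw hs hp hd hrW hLc hrL
  have hone : ((q ^ d : ℕ) : ZMod r) = 1 := by push_cast; exact pow_orderOf_eq_one _
  have hd1 : orderOf ((q ^ d : ℕ) : ZMod r) = 1 := orderOf_eq_one_iff.2 hone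
  have hfil : (deg.filter fun e => orderOf ((q ^ d : ℕ) : ZMod r) ∣ e).length = D.rank := by
    rw [hd1, List.filter_eq_self.2 (fun a _ => by simp), hlen]
  have hc1 : cval r (q ^ d) = padicValNat r (q ^ d - 1) := by
    rw [← val_cyclotomic (Nat.one_lt_pow (NeZero.ne d) (by omega)) hrL, hd1, pow_one]
  have hle : D.diagonalSubgroup L ≤ D.group L := diagonalSubgroup_le_group g
  obtain ⟨S⟩ : Nonempty (Sylow r ↥((D.diagonalSubgroup L).subgroupOf (D.group L))) := inferInstance
  let S' : Sylow r ↥(D.group L) := Sylow.ofCard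
    ((S : Subgroup ↥((D.diagonalSubgroup L).subgroupOf (D.group L))).map (Subgroup.subtype _)) (by
      rw [Subgroup.card_map_of_injective (Subgroup.subtype_injective _), S.card_eq_multiplicity,
        Nat.factorization_def _ hr.out, Nat.factorization_def _ hr.out,
        Nat.card_congr (Subgroup.subgroupOfEquivOfLe hle).toEquiv, hvG, hvT, hfil, hc1])
  let θ : ↥(P : Subgroup ↥(D.group F)) →* ↥(D.group L) :=
    ((Matrix.GeneralLinearGroup.map ι).comp ((D.group F).subtype.comp
      (P : Subgroup ↥(D.group F)).subtype)).codRestrict _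
      fun x => group_map_le g ι ⟨x.1.1, x.1.2, rfl⟩
  have hP' : IsPGroup r θ.range := P.isPGroup'.of_surjective θ.rangeRestrict θ.rangeRestrict_surjective
  obtain ⟨Q, hQ⟩ := hP'.exists_le_sylow
  obtain ⟨k, hk⟩ := MulAction.exists_smul_eq ↥(D.group L) Q S'
  have hdiag : ∀ x, (k : GL D.Idx L) * (θ x : GL D.Idx L) * (k : GL D.Idx L)⁻¹ ∈
      D.diagonalSubgroup L := by
    intro x
    have h1 : k * θ x * k⁻¹ ∈ (S' : Subgroup ↥(D.group L)) := by
      rw [← hk, Sylow.coe_subgroup_smul]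
      exact Subgroup.smul_mem_pointwise_smul _ (MulAut.conj k) _ (hQ ⟨x, rfl⟩)
    obtain ⟨z, hz, hze⟩ := h1
    rw [← Subgroup.coe_mul, show (((k * θ x) : ↥(D.group L)) : GL D.Idx L) * (k : GL D.Idx L)⁻¹ =
      ((k * θ x * k⁻¹ : ↥(D.group L)) : GL D.Idx L) from rfl, ← hze]
    exact z.2
  choose a ha using fun x : ↥(P : Subgroup ↥(D.group F)) =>
    (show ∃ a, (k : GL D.Idx L) * (θ x : GL D.Idx L) * (k : GL D.Idx L)⁻¹ = dgn D A a from by
      have h1 := hdiag x
      rw [diagonalSubgroup_eq g] at h1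
      obtain ⟨c, hc⟩ := h1
      exact ⟨_, hc.symm.trans (tor_eq_dgn g c)⟩)
  -- the relation
  obtain ⟨w, hwl, hfus⟩ := fusion h
    (mul_mem (group_map_le g σ ⟨_, k.2, rfl⟩) (inv_mem k.2) :
      Matrix.GeneralLinearGroup.map σ (k : GL D.Idx L) * (k : GL D.Idx L)⁻¹ ∈ D.group L)
  have hrel : ∀ x (s : ℕ), s < D.nroots →
      wt D A (Lang.ext (a x)) (wf A w.reverse s) = wt D A (Lang.ext (a x)) s ^ q := by
    intro x s hs'
    set b : Fin D.rank → Lˣ := fun i => Units.map (σ : L →* L) (a x i)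
    have hfix : Matrix.GeneralLinearGroup.map σ (θ x : GL D.Idx L) = (θ x : GL D.Idx L) :=
      Units.ext (Matrix.ext fun i j => hσι _)
    have hb : dgn D A b = Matrix.GeneralLinearGroup.map σ (k : GL D.Idx L) * (θ x : GL D.Idx L) *
        (Matrix.GeneralLinearGroup.map σ (k : GL D.Idx L))⁻¹ := by
      rw [← map_dgn, ← ha, map_mul, map_mul, map_inv, hfix]
    have hbd : dgn D A b ∈ D.diagonalSubgroup L := by
      have h1 := hdiag x
      rw [ha, diagonalSubgroup_eq g] at h1
      obtain ⟨c, hc⟩ := h1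
      rw [← map_dgn, ← hc, map_tor, diagonalSubgroup_eq g]
      exact ⟨_, rfl⟩
    have hconj := hfus (a x) b (ha x ▸ hdiag x) hbd (by rw [hb, ← ha]; group)
    have h2 := Tori.conj_dgn_wt h (nW_acts g hwl) hconj
      (wf_lt g (fun j hj => hwl j (List.mem_reverse.1 hj)) hs')
    rw [wf_rev_right g hwl hs'] at h2
    rw [← h2, wt, wt, ← Finset.prod_pow]
    refine Finset.prod_congr rfl fun j hj => ?_
    rw [Lang.ext, Lang.ext, dif_pos (Finset.mem_range.1 hj), dif_pos (Finset.mem_range.1 hj), ← map_zpow]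
    exact Units.ext (hσ _)
  -- roots of unity
  set v := cval r q
  have hv : padicValNat r (q ^ d - 1) = v := val_cyclotomic hq2 hrq
  set m := r ^ v
  have hmq : m ∣ q ^ d - 1 := by rw [show m = r ^ padicValNat r (q ^ d - 1) by rw [hv]]; exact pow_padicValNat_dvd
  have : NeZero m := ⟨pow_ne_zero _ hr.out.ne_zero⟩
  obtain ⟨γ, hγ⟩ := IsCyclic.exists_ofOrder_eq_natCard (α := Lˣ)
  rw [Nat.card_units, hL] at hγ
  obtain ⟨kk, hkk⟩ := hmq
  have hpos : 0 < q ^ d - 1 := by
    have : 1 < q ^ d := Nat.one_lt_pow (NeZero.ne d) (by omega)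
    omega
  have hζ : IsPrimitiveRoot (γ ^ kk) m :=
    (hγ ▸ IsPrimitiveRoot.orderOf γ).pow hpos (by rw [hkk, mul_comm])
  set ζ := γ ^ kk
  have ham : ∀ x i, a x i ^ m = 1 := by
    intro x i
    obtain ⟨n, hn⟩ := P.isPGroup' x
    have h1 : (a x) ^ r ^ n = 1 := by
      apply dgn_inj g
      rw [map_pow, ← ha, conj_pow, ← Subgroup.coe_pow, ← map_pow, hn, map_one, Subgroup.coe_one,
        mul_one, mul_inv_cancel, map_one]
    have h2 : a x i ^ r ^ n = 1 := congrFun h1 i
    have h3 : a x i ^ (q ^ d - 1) = 1 := by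
      rw [← hLc, ← Fintype.card_units, pow_card_eq_one]
    obtain ⟨j, -, hj⟩ := (Nat.dvd_prime_pow hr.out).1 (orderOf_dvd_of_pow_eq_one h2)
    have h4 := orderOf_dvd_of_pow_eq_one h3
    rw [hj] at h4
    rw [← orderOf_dvd_iff_pow_eq_one, hj]
    exact pow_dvd_pow r (hv ▸ (padicValNat_dvd_iff_le hpos.ne').1 h4)
  have hex : ∀ x i, ∃ z : ZMod m, zp ζ z = a x i := by
    intro x i
    have hζ' : IsPrimitiveRoot (ζ : L) m := IsPrimitiveRoot.coe_units_iff.2 hζ
    obtain ⟨j, -, hj⟩ := hζ'.eq_pow_of_pow_eq_one (ξ := (a x i : L))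
      (by rw [← Units.val_pow_eq_pow_val, ham, Units.val_one])
    refine ⟨((j : ℤ) : ZMod m), ?_⟩
    rw [zp_cast hζ, zpow_natCast]
    exact Units.ext (by rw [Units.val_pow_eq_pow_val]; exact hj)
  choose z hz using hex
  have hwr : Letters D w.reverse := fun j hj => hwl j (List.mem_reverse.1 hj)
  have hze : ∀ x, (fun i => z x i) ∈ eigen (ZMod m) D A w.reverse (q : ZMod m) := by
    intro x
    rw [mem_eigen]
    funext i
    apply zp_inj hζ
    have e1 : (fun i => zp ζ (z x i)) = a x := funext (hz x)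
    rw [Pi.smul_apply, smul_eq_mul, zp_nat hζ, hz, Phi, LinearMap.pi_apply, ← wt_zp hζ, e1,
      hrel x _ (g.simple_lt i i.isLt), wt_simple g _ i.isLt, Lang.ext, dif_pos i.isLt]
  refine ⟨w.reverse, hwr, Nat.card_le_card_of_injective (fun x => (⟨_, hze x⟩ : eigen _ D A _ _))
    fun x y e => ?_⟩
  have e1 : a x = a y := funext fun i => by
    rw [← hz, ← hz]
    exact congrArg (zp ζ) (congrFun (congrArg Subtype.val e) i)
  have h1 := ha x
  rw [e1, ← ha y] at h1
  have h2 : (θ x : GL D.Idx L) = (θ y : GL D.Idx L) := mul_left_cancel (mul_right_cancel h1)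
  exact Subtype.ext (Subtype.ext (Units.ext (Matrix.map_injective ι.injective (congrArg Units.val h2))))

/-- the eigenspace is realised by rational elements -/
theorem eigen_realise [Fintype F] (h : Std D A) (hdet : (cartanM D A).det ≠ 0)
    (hrdet : ¬ r ∣ (cartanM D A).det.natAbs) {q : ℕ} (hq : Fintype.card F = q) (hrq : ¬ r ∣ q)
    (v : ℕ) {w : List ℕ} (hw : Letters D w) :
    ∃ ψ : Multiplicative ↥(eigen (ZMod (r ^ v)) D A w (q : ZMod (r ^ v))) →* ↥(D.group F),
      Function.Injective ψ := by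
  classical
  subst hq
  have g := h.good
  obtain ⟨K, _, _, ι, σ, hσ, G, hG, hmG⟩ :=
    lang h hdet (monomialSubgroup_le_group g (nW_mem (F := F) g hw))
  rw [map_nW] at hmG
  obtain ⟨p, hp⟩ := CharP.exists F
  have := Fact.mk (CharP.char_is_prime F p)
  have : CharP K p := charP_of_injective_ringHom ι.injective p
  obtain ⟨f, -, hf⟩ := FiniteField.card F p
  have hσp : σ = iterateFrobenius K p f := RingHom.ext fun x => by
    rw [hσ, iterateFrobenius_def]; exact congrArg _ hf
  let σe : K ≃+* K := RingEquiv.ofBijective σ (hσp ▸ bijective_iterateFrobenius K p f)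
  have hι : ∀ x, σe x = x ↔ ∃ y, ι y = x := by
    intro x
    show σ x = x ↔ _
    rw [hσ]
    constructor
    · intro hx
      by_contra hne
      push Not at hne
      let P : Polynomial K := Polynomial.X ^ Fintype.card F - Polynomial.X
      have hP : P ≠ 0 := FiniteField.X_pow_card_sub_X_ne_zero K Fintype.one_lt_card
      have h1 : insert x (Finset.univ.image ι) ⊆ P.roots.toFinset := by
        intro y hy
        rw [Multiset.mem_toFinset, Polynomial.mem_roots hP, Polynomial.IsRoot, Polynomial.eval_sub,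
          Polynomial.eval_pow, Polynomial.eval_X, sub_eq_zero]
        rcases Finset.mem_insert.1 hy with rfl | hy
        · exact hx
        · obtain ⟨t, -, rfl⟩ := Finset.mem_image.1 hy
          rw [← map_pow, FiniteField.pow_card]
      have h2 := (Finset.card_le_card h1).trans
        ((Multiset.toFinset_card_le _).trans (Polynomial.card_roots' P))
      rw [Finset.card_insert_of_notMem (by simpa using hne),
        Finset.card_image_of_injective _ ι.injective, Finset.card_univ,
        FiniteField.X_pow_card_sub_X_natDegree_eq K Fintype.one_lt_card] at h2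
      omega
    · rintro ⟨y, rfl⟩
      rw [← map_pow, FiniteField.pow_card]
  set m := r ^ v
  have : NeZero m := ⟨pow_ne_zero _ hr.out.ne_zero⟩
  have hmK : (m : K) ≠ 0 := by
    rw [Nat.cast_pow]
    refine pow_ne_zero _ fun e => hrq ?_
    rw [CharP.cast_eq_zero_iff K p] at e
    rw [← (Nat.prime_dvd_prime_iff_eq (CharP.char_is_prime F p) hr.out).1 e, hf]
    exact dvd_pow_self p f.pos.ne'
  have : NeZero (m : K) := ⟨hmK⟩
  obtain ⟨ζ₀, hζ₀⟩ := HasEnoughRootsOfUnity.exists_primitiveRoot K m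
  let ζ : Kˣ := (hζ₀.isUnit (NeZero.ne m)).unit
  have hζ : IsPrimitiveRoot ζ m := IsPrimitiveRoot.coe_units_iff.1 hζ₀
  set V := eigen (ZMod m) D A w (Fintype.card F : ZMod m)
  have hfix : ∀ x ∈ V, Matrix.GeneralLinearGroup.map σ
      (G * dgn D A (fun i => zp ζ (x i)) * G⁻¹) = G * dgn D A (fun i => zp ζ (x i)) * G⁻¹ := by
    intro x hx
    set a : Fin D.rank → Kˣ := fun i => zp ζ (x i)
    obtain ⟨b, hb⟩ := Tori.conj_dgn g hdet (nW_mem (F := K) g hw) fun i => Units.map (σ : K →* K) (a i)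
    rw [map_mul, map_mul, map_inv, hmG, map_dgn,
      show G * nW K g w * dgn D A (fun i => Units.map (σ : K →* K) (a i)) * (G * nW K g w)⁻¹ =
        G * (nW K g w * dgn D A (fun i => Units.map (σ : K →* K) (a i)) * (nW K g w)⁻¹) * G⁻¹ by group,
      hb]
    congr 3
    funext i
    have hs := g.simple_lt i i.isLt
    have hs' := wf_lt g hw.reverse hs
    have h1 := Tori.conj_dgn_wt h (nW_acts g hw) hb hs'
    rw [wf_rev_right g hw hs, wt_simple g _ i.isLt, Lang.ext, dif_pos i.isLt] at h1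
    rw [h1, show wt D A (Lang.ext fun i => Units.map (σ : K →* K) (a i)) (wf A w.reverse (D.simple i)) =
        wt D A (Lang.ext a) (wf A w.reverse (D.simple i)) ^ Fintype.card F by
      rw [wt, wt, ← Finset.prod_pow]
      refine Finset.prod_congr rfl fun j hj => ?_
      rw [Lang.ext, Lang.ext, dif_pos (Finset.mem_range.1 hj), dif_pos (Finset.mem_range.1 hj),
        ← map_zpow]
      exact Units.ext (hσ _), wt_zp hζ, ← zp_nat hζ]
    congr 1
    have h2 := lin_wf g hw hs' x
    rw [wf_rev_right g hw hs, mem_eigen.1 hx, map_smul, smul_eq_mul, lin_simple g] at h2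
    exact h2.symm
  let E : Multiplicative ↥V →* (Fin D.rank → Kˣ) := MonoidHom.mk'
    (fun x i => zp ζ ((Multiplicative.toAdd x : ↥V).1 i)) fun x y => funext fun i => zp_add hζ _ _
  let Ψ : Multiplicative ↥V →* GL D.Idx K := (MulAut.conj G).toMonoidHom.comp ((dgn D A).comp E)
  have hΨ : Function.Injective Ψ := (MulAut.conj G).injective.comp ((dgn_inj g).comp fun x y e =>
    Multiplicative.toAdd.injective (Subtype.ext (funext fun i => zp_inj hζ (congrFun e i))))
  set e := (cartanM D A).det.natAbs with he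
  have hinjι : Function.Injective (Matrix.GeneralLinearGroup.map (n := D.Idx) ι) :=
    fun x y e => Units.ext (Matrix.map_injective ι.injective (congrArg Units.val e))
  have hpow : ∀ {y : GL D.Idx F}, y ∈ Gad g → y ^ e ∈ D.group F := by
    rintro _ ⟨x, hx, a, rfl⟩
    have hp : ∀ n : ℕ, ∃ x' ∈ D.group F, (x * dgn D A a) ^ n = x' * dgn D A (a ^ n) := by
      intro n
      induction n with
      | zero => exact ⟨1, one_mem _, by simp⟩
      | succ n ih =>
        obtain ⟨x', hx', e⟩ := ih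
        refine ⟨x' * (dgn D A (a ^ n) * x * (dgn D A (a ^ n))⁻¹),
          mul_mem hx' (dgn_conj_group g _ hx), ?_⟩
        rw [pow_succ, e, pow_succ a, map_mul (dgn D A)]
        group
    obtain ⟨x', hx', hxe⟩ := hp e
    rw [hxe]
    refine mul_mem hx' (diagonalSubgroup_le_group g ?_)
    rw [diagonalSubgroup_eq g]
    have hc : ∀ b : Fin D.rank → Fˣ, mHom F (cartanM D A) (mHom F (cartanM D A).adjugate b) =
        fun k => b k ^ (cartanM D A).det := by
      intro b
      rw [mHom_mul, Matrix.adjugate_mul]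
      funext k
      rw [mHom_apply, Finset.prod_eq_single k]
      · simp
      · intro i _ hik; simp [Matrix.one_apply_ne hik]
      · simp
    obtain ⟨b, hb⟩ : ∃ b : Fin D.rank → Fˣ, (fun k => b k ^ (cartanM D A).det) = a ^ e := by
      rcases Int.natAbs_eq (cartanM D A).det with e1 | e1
      · exact ⟨a, funext fun k => by rw [e1, zpow_natCast]; rfl⟩
      · exact ⟨a⁻¹, funext fun k => by rw [e1, Pi.inv_apply, _root_.inv_zpow', neg_neg, zpow_natCast]; rfl⟩
    refine ⟨mHom F (cartanM D A).adjugate b, ?_⟩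
    rw [tor_eq_dgn g, ← hb, ← hc b]
    rfl
  obtain ⟨eu, heu⟩ : IsUnit (e : ZMod m) := by
    rw [ZMod.isUnit_iff_coprime]
    exact Nat.Coprime.pow_right _ ((Nat.coprime_comm).1 ((Nat.Prime.coprime_iff_not_dvd hr.out).2 hrdet))
  have hmem : ∀ x, Ψ x ∈ (D.group F).map (Matrix.GeneralLinearGroup.map ι) := by
    intro x
    set y : ↥V := ((eu⁻¹ : (ZMod m)ˣ) : ZMod m) • Multiplicative.toAdd x
    have hy : Multiplicative.ofAdd y ^ e = x := by
      rw [← ofAdd_nsmul, ← Nat.cast_smul_eq_nsmul (ZMod m), smul_smul, ← heu, Units.mul_inv, one_smul]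
      rfl
    obtain ⟨u, hu, hue⟩ := Tori.fixed_mem_Gad h hι
      (mul_mem (mul_mem hG (dgn_mem_group g hdet _)) (inv_mem hG)) (hfix y.1 y.2)
    refine ⟨u ^ e, hpow hu, ?_⟩
    rw [map_pow, hue, ← hy, map_pow]
    rfl
  choose u hu hue using fun x => Subgroup.mem_map.1 (hmem x)
  exact ⟨MonoidHom.mk' (fun x => ⟨u x, hu x⟩) fun x y => Subtype.ext (hinjι (by
      rw [Subgroup.coe_mul, map_mul, hue, hue, hue, map_mul])),
    fun x y e => hΨ (by rw [← hue, ← hue, show u x = u y from congrArg Subtype.val e])⟩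

end CfsgLib.Chev.SylowTori
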