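/-
Sylow subgroups for primes not dividing the order of the Weyl group are homocyclic.
-/
import Cfsg.Agent.Lib.Chev.SylowTori.Torus
import Cfsg.Agent.Lib.Chev.OrderTypes

set_option autoImplicit false
set_option maxRecDepth 100000

namespace CfsgLib.Chev.SylowTori

open Cfsg.Lie CfsgLib.Chev

universe u

theorem zmod_local {r v : ℕ} (hr : r.Prime) (hv : 0 < v) : IsLocalRing (ZMod (r ^ v)) := by
  have : NeZero (r ^ v) := ⟨pow_ne_zero _ hr.ne_zero⟩
  have : Fact (1 < r ^ v) := ⟨Nat.one_lt_pow hv.ne' hr.one_lt⟩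
  refine IsLocalRing.of_isUnit_or_isUnit_one_sub_self fun a => ?_
  by_cases hra : r ∣ a.val
  · right
    rcases Int.natAbs_eq (1 - (a.val : ℤ)) with e | e
    all_goals
      have h1 : (1 - a : ZMod (r ^ v)) = ((1 - (a.val : ℤ) : ℤ) : ZMod (r ^ v)) := by simp
      have h2 : (1 - (a.val : ℤ)).natAbs.Coprime (r ^ v) := by
        refine Nat.Coprime.pow_right _ ((Nat.coprime_comm).1 ((Nat.Prime.coprime_iff_not_dvd hr).2 ?_))
        intro hh
        have h3 := Int.natCast_dvd.2 hh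
        have h4 := Int.natCast_dvd_natCast.2 hra
        have h5 : (r : ℤ) ∣ 1 := by simpa using dvd_add h3 h4
        exact hr.ne_one (Nat.dvd_one.1 (by exact_mod_cast h5))
      rw [h1, e]
      simpa using (ZMod.isUnit_iff_coprime _ _).2 h2
  · left
    rw [← ZMod.natCast_zmod_val a, ZMod.isUnit_iff_coprime]
    exact Nat.Coprime.pow_right _ ((Nat.coprime_comm).1 ((Nat.Prime.coprime_iff_not_dvd hr).2 hra))

/-- Sylow subgroups are homocyclic -/
theorem sylow_homocyclic {D : ChevalleyDatum} {A : Aux} {F : Type u} [Field F] [Fintype F]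
    (h : Std D A) {lv : List (List Rep)} (hw : checkWeyl D A lv = true)
    {U Ui V Vi : Matrix (Fin D.rank) (Fin D.rank) ℤ} {dd : Fin D.rank → ℕ}
    (hs : smithCheck D A U Ui V Vi dd = true) {deg : List ℕ} (hp : poinCheck D.rank lv deg = true)
    (hd : ∀ i, dd i ∣ deg.prod) {q : ℕ} (hq : Fintype.card F = q) {r : ℕ} [hr : Fact r.Prime]
    (hrq : ¬ r ∣ q) (hrW : ¬ r ∣ deg.prod) (hrG : r ∣ Nat.card ↥(D.group F))
    (P : Sylow r ↥(D.group F)) :
    Nonempty (↥(P : Subgroup ↥(D.group F)) ≃*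
      (Fin (deg.filter fun e => orderOf (q : ZMod r) ∣ e).length →
        Multiplicative (ZMod (r ^ cval r q)))) := by
  classical
  have g := h.good
  have : Finite (GL D.Idx F) := finite_GL
  have hq2 : 2 ≤ q := hq ▸ Fintype.one_lt_card
  have hlen : deg.length = D.rank := by
    simp only [poinCheck, Bool.and_eq_true, decide_eq_true_eq] at hp
    exact hp.1
  set a := (deg.filter fun e => orderOf (q : ZMod r) ∣ e).length
  set v := cval r q
  have hP : Nat.card ↥(P : Subgroup ↥(D.group F)) = r ^ (a * v) := by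
    rw [P.card_eq_multiplicity, Nat.factorization_def _ hr.out,
      (val_group h hw hs hp hd hrW hq hrq).1]
  have hav : 0 < a * v := by
    rw [← (val_group h hw hs hp hd hrW hq hrq).1]
    exact one_le_padicValNat_of_dvd Nat.card_pos.ne' hrG
  have ha : 0 < a := Nat.pos_of_ne_zero fun e => by rw [e, zero_mul] at hav; omega
  have hv : 0 < v := Nat.pos_of_ne_zero fun e => by rw [e, mul_zero] at hav; omega
  have : IsLocalRing (ZMod (r ^ v)) := zmod_local hr.out hv
  have : NeZero (r ^ v) := ⟨pow_ne_zero _ hr.out.ne_zero⟩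
  obtain ⟨w, hwl, hle⟩ := sylow_into_eigen h hw hs hp hd hlen hrW hq hrq P
  have hdetd : (cartanM D A).det.natAbs ∣ ∏ i, dd i := by
    simp only [smithCheck, List.all_eq_true, List.mem_finRange, forall_const, Bool.and_eq_true,
      decide_eq_true_eq] at hs
    have h1 : U * cartanM D A * V = Matrix.diagonal fun i => (dd i : ℤ) := Matrix.ext fun i k => by
      rw [(hs i k).1.1, Matrix.diagonal_apply]
    have h2 := congrArg (fun M => (Matrix.det M).natAbs) h1
    simp only [Matrix.det_mul, Matrix.det_diagonal, Int.natAbs_mul] at h2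
    rw [← Nat.cast_prod, Int.natAbs_natCast] at h2
    rw [← h2]
    exact dvd_mul_of_dvd_left (dvd_mul_left _ _) _
  have hrd : ¬ r ∣ ∏ i, dd i := fun hh => by
    obtain ⟨i, -, hi⟩ := (Nat.prime_iff.1 hr.out).exists_mem_finset_dvd hh
    exact hrW (hi.trans (hd i))
  have hrdet : ¬ r ∣ (cartanM D A).det.natAbs := fun hh => hrd (hh.trans hdetd)
  have hdet : (cartanM D A).det ≠ 0 := fun e => hrdet (by rw [e]; exact dvd_zero r)
  set E := eigen (ZMod (r ^ v)) D A w (q : ZMod (r ^ v))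
  obtain ⟨ψ, hψ⟩ : ∃ ψ : Multiplicative ↥E →* ↥(D.group F), Function.Injective ψ := eigen_realise h hdet hrdet hq hrq v hwl
  -- the acting element has `q` as an eigenvalue
  set o := Nat.card (Weyl g)
  have ho : ¬ r ∣ o := by rw [show o = deg.prod from weyl_card_deg g hw hp]; exact hrW
  have hou : IsUnit (o : ZMod (r ^ v)) := by
    rw [ZMod.isUnit_iff_coprime]
    exact Nat.Coprime.pow_right _ ((Nat.coprime_comm).1 ((Nat.Prime.coprime_iff_not_dvd hr.out).2 ho))
  have hqo : (q : ZMod (r ^ v)) ^ o = 1 := by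
    by_cases hdo : orderOf (q : ZMod r) ∣ o
    · obtain ⟨k, hk⟩ := hdo
      have h1 : r ^ v ∣ q ^ orderOf (q : ZMod r) - 1 := by
        rw [show v = padicValNat r (q ^ orderOf (q : ZMod r) - 1) from (val_cyclotomic hq2 hrq).symm]
        exact pow_padicValNat_dvd
      have h2 := (ZMod.natCast_eq_zero_iff _ _).2 h1
      rw [Nat.cast_sub (Nat.one_le_pow _ _ (by omega)), Nat.cast_one, sub_eq_zero, Nat.cast_pow] at h2
      rw [hk, pow_mul, h2, one_pow]
    · exfalso
      have hne : ¬ r ∣ q ^ o - 1 := fun hh => hdo ((dvd_pow_sub_one_iff (by omega) o).1 hh)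
      have hu : IsUnit ((q ^ o - 1 : ℕ) : ZMod (r ^ v)) := by
        rw [ZMod.isUnit_iff_coprime]
        exact Nat.Coprime.pow_right _
          ((Nat.coprime_comm).1 ((Nat.Prime.coprime_iff_not_dvd hr.out).2 hne))
      have hbot : ∀ x : ↥E, x = 0 := by
        intro x
        have h1 := eigen_pow x.2 o
        rw [Phi_pow_card g hwl, Module.End.one_apply] at h1
        refine Subtype.ext ((IsUnit.smul_eq_zero hu).1 ?_)
        rw [Nat.cast_sub (Nat.one_le_pow _ _ (by omega)), Nat.cast_one, Nat.cast_pow, sub_smul,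
          one_smul, ← h1, sub_self]
      have : Subsingleton ↥E := ⟨fun x y => by rw [hbot x, hbot y]⟩
      have h1 := hle.trans_eq (Nat.card_of_subsingleton (0 : ↥E))
      rw [hP] at h1
      exact absurd h1 (not_le.2 (Nat.one_lt_pow hav.ne' hr.out.one_lt))
  obtain ⟨hfree, hfin⟩ := eigen_free g hwl hqo hou
  let b := Module.Free.chooseBasis (ZMod (r ^ v)) ↥E
  have := Fintype.ofFinite (Module.Free.ChooseBasisIndex (ZMod (r ^ v)) ↥E)
  have hcE : Nat.card ↥E = r ^ (v * Fintype.card (Module.Free.ChooseBasisIndex (ZMod (r ^ v)) ↥E)) := by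
    rw [Nat.card_congr b.equivFun.toEquiv, Nat.card_fun, Nat.card_zmod, Nat.card_eq_fintype_card,
      ← pow_mul]
  have hrange : Nat.card ↥ψ.range = r ^ (v * Fintype.card (Module.Free.ChooseBasisIndex (ZMod (r ^ v)) ↥E)) := by
    rw [← Nat.card_congr (MonoidHom.ofInjective hψ).toEquiv, Nat.card_congr Multiplicative.toAdd, hcE]
  have hpg : IsPGroup r ↥ψ.range := IsPGroup.of_card hrange
  obtain ⟨Q, hQ⟩ := hpg.exists_le_sylow
  have hQc : Nat.card ↥(Q : Subgroup ↥(D.group F)) = r ^ (a * v) := by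
    rw [Q.card_eq_multiplicity, ← P.card_eq_multiplicity, hP]
  have hge : r ^ (a * v) ≤ Nat.card ↥ψ.range := by rw [hrange, ← hcE, ← hP]; exact hle
  have heq : ψ.range = (Q : Subgroup ↥(D.group F)) :=
    Subgroup.eq_of_le_of_card_ge hQ (hQc.trans_le hge)
  have hcard : Fintype.card (Module.Free.ChooseBasisIndex (ZMod (r ^ v)) ↥E) = a := by
    have h1 : r ^ (v * Fintype.card (Module.Free.ChooseBasisIndex (ZMod (r ^ v)) ↥E)) = r ^ (a * v) := by
      rw [← hrange, heq, hQc]
    rw [mul_comm a v] at h1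
    exact Nat.eq_of_mul_eq_mul_left hv (Nat.pow_right_injective hr.out.two_le h1)
  let e1 : ↥(P : Subgroup ↥(D.group F)) ≃* Multiplicative ↥E :=
    ((Sylow.equiv P Q).trans (MulEquiv.subgroupCongr heq.symm)).trans (MonoidHom.ofInjective hψ).symm
  let e2 : ↥E ≃+ (Fin a → ZMod (r ^ v)) :=
    (b.reindex (Fintype.equivFinOfCardEq hcard)).equivFun.toAddEquiv
  exact ⟨(e1.trans (AddEquiv.toMultiplicative e2)).trans
    (MulEquiv.funMultiplicative (Fin a) (ZMod (r ^ v))).symm⟩

/-- the seven types -/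
theorem sylow_homocyclic_types {F : Type u} [Field F] [Fintype F] {q : ℕ} (hq : Fintype.card F = q)
    (c : ChevalleyDatum × List ℕ)
    (hc : c ∈ [(chevG2, [2, 6]), (chevB2, [2, 4]), (chevD4, [2, 4, 4, 6]), (chevF4, [2, 6, 8, 12]),
      (chevE6, [2, 5, 6, 8, 9, 12]), (chevE7, [2, 6, 8, 10, 12, 14, 18]),
      (chevE8, [2, 8, 12, 14, 18, 20, 24, 30])])
    (r : ℕ) [Fact r.Prime] (hrq : ¬ r ∣ q) (hrW : ¬ r ∣ c.2.prod)
    (hrG : r ∣ Nat.card ↥(c.1.group F)) (P : Sylow r ↥(c.1.group F)) :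
    Nonempty (↥(P : Subgroup ↥(c.1.group F)) ≃*
      (Fin (c.2.filter (fun e => orderOf (q : ZMod r) ∣ e)).length →
        Multiplicative (ZMod (r ^ padicValNat r
          ((Polynomial.cyclotomic (orderOf (q : ZMod r)) ℤ).eval (q : ℤ)).natAbs)))) := by
  simp only [List.mem_cons, List.not_mem_nil, or_false] at hc
  rcases hc with rfl | rfl | rfl | rfl | rfl | rfl | rfl
  · exact sylow_homocyclic stdG2 weylOKG2 smithG2 poinG2
      (show ∀ i : Fin 2, (![1, 1] : Fin 2 → ℕ) i ∣ [2, 6].prod by decide +kernel) hq hrq hrW hrG P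
  · exact sylow_homocyclic stdB2 weylOKB2 smithB2 poinB2
      (show ∀ i : Fin 2, (![1, 2] : Fin 2 → ℕ) i ∣ [2, 4].prod by decide +kernel) hq hrq hrW hrG P
  · exact sylow_homocyclic stdD4 weylOKD4 smithD4 poinD4
      (show ∀ i : Fin 4, (![1, 1, 2, 2] : Fin 4 → ℕ) i ∣ [2, 4, 4, 6].prod by decide +kernel)
      hq hrq hrW hrG P
  · exact sylow_homocyclic stdF4 weylOKF4 smithF4 poinF4
      (show ∀ i : Fin 4, (![1, 1, 1, 1] : Fin 4 → ℕ) i ∣ [2, 6, 8, 12].prod by decide +kernel)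
      hq hrq hrW hrG P
  · exact sylow_homocyclic stdE6 weylOKE6 smithE6 poinE6
      (show ∀ i : Fin 6, (![1, 1, 1, 1, 1, 3] : Fin 6 → ℕ) i ∣ [2, 5, 6, 8, 9, 12].prod by
        decide +kernel) hq hrq hrW hrG P
  · exact sylow_homocyclic stdE7 weylOKE7 smithE7 poinE7
      (show ∀ i : Fin 7, (![1, 1, 1, 1, 1, 1, 2] : Fin 7 → ℕ) i ∣ [2, 6, 8, 10, 12, 14, 18].prod by
        decide +kernel) hq hrq hrW hrG P
  · exact sylow_homocyclic stdE8 weylOKE8 smithE8 poinE8
      (show ∀ i : Fin 8, (![1, 1, 1, 1, 1, 1, 1, 1] : Fin 8 → ℕ) i ∣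
        [2, 8, 12, 14, 18, 20, 24, 30].prod by decide +kernel) hq hrq hrW hrG P

end CfsgLib.Chev.SylowTori
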